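import Cfsg.Agent.H587.S3068.Repl
import Cfsg.Agent.H215.J7.Iface

/-!
# S3068: the dichotomy and the bound 3 (helper587)
-/

set_option autoImplicit false
set_option linter.unusedSectionVars false

namespace Cfsg.Agent.H587.S3068

open Subgroup Cfsg Cfsg.Agent.PLocal Cfsg.Agent.PLocal.ThompsonJA
open Cfsg.Agent.PLocal.ThompsonReplacement (elemComm mem_elemComm elemComm_le_iff)
open Cfsg.Agent.H215.J7
open scoped commutatorElement

variable {G : Type*} [Group G]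

/-- `A ≰ Q` is an abelian subgroup of `S` of largest order with `(|A ∩ R|, |A ∩ D|)` as large as possible -/
structure Best (S Q R D A : Subgroup G) : Prop where
  QS : Q ≤ S
  RD : R ≤ D
  DQ : D ≤ Q
  cent : ∀ d ∈ D, ∀ r ∈ R, d * r = r * d
  comm : ∀ d ∈ D, ∀ q ∈ Q, ⁅q, d⁆ ∈ R
  mem : A ∈ maxAbelianIn S
  not_le : ¬ A ≤ Q
  best : ∀ B ∈ maxAbelianIn S, ¬ B ≤ Q → A ⊓ ZZ Q ≤ B → Nat.card (B ⊓ R : Subgroup G) ≤ Nat.card (A ⊓ R : Subgroup G) ∧
    (Nat.card (B ⊓ R : Subgroup G) = Nat.card (A ⊓ R : Subgroup G) →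
      Nat.card (B ⊓ D : Subgroup G) ≤ Nat.card (A ⊓ D : Subgroup G))

namespace Best

variable {S Q R D A : Subgroup G} (h : Best S Q R D A)

include h

theorem AS : A ≤ S := h.mem.1

theorem Aab : ∀ a ∈ A, ∀ b ∈ A, a * b = b * a := (ThompsonJA.isMulCommutative_iff A).mp h.mem.2.1

/-- the dichotomy -/
theorem dich [Finite G] {y : G} (hy : y ∈ Q) (hTD : elemComm y A ≤ D)
    (hT : ∀ s ∈ elemComm y A, ∀ t ∈ elemComm y A, s * t = t * s) :
    elemComm y A ≤ A ∨ A ⊓ centralizer (elemComm y A : Set G) ≤ Q := by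
  by_contra hcon
  rw [not_or] at hcon
  obtain ⟨h1, h2⟩ := hcon
  set T := elemComm y A with hTd
  set C := A ⊓ centralizer (T : Set G) with hC
  obtain ⟨hB, -⟩ := repl h.mem (h.QS hy) hT
  have hBQ : ¬ T ⊔ C ≤ Q := fun hh => h2 (le_sup_right.trans hh)
  have hZ : A ⊓ ZZ Q ≤ C := fun a ha =>
    ⟨ha.1, mem_centralizer_iff.2 fun t ht => mem_centralizer_iff.1 ha.2.2 t (h.DQ (hTD ht))⟩
  obtain ⟨h3, h4⟩ := h.best _ hB hBQ (hZ.trans le_sup_right)
  have h5 : A ⊓ R ≤ C := fun a ha => ⟨ha.1, mem_centralizer_iff.2 fun t ht => h.cent t (hTD ht) a ha.2⟩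
  have h6 : A ⊓ R = (T ⊔ C) ⊓ R :=
    eq_of_le_of_card_ge (le_inf (h5.trans le_sup_right) inf_le_right) h3
  have h7 : T ⊓ R ≤ A := by
    have : T ⊓ R ≤ (T ⊔ C) ⊓ R := inf_le_inf_right _ le_sup_left
    rw [← h6] at this
    exact this.trans inf_le_left
  have h8 : A ⊓ D ≤ C := by
    intro a ha
    refine ⟨ha.1, ?_⟩
    have h9 : ⁅y, a⁆ ∈ A := h7 ⟨mem_elemComm y A ha.1, h.comm a ha.2 y hy⟩
    have h10 : T ≤ centralizer ({a} : Set G) := by
      rw [hTd, elemComm_le_iff]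
      intro d hd
      rw [mem_centralizer_singleton_iff]
      have h11 := swap h.Aab hT ha.1 hd
      have h12 : ⁅d, ⁅y, a⁆⁆ = 1 := commutatorElement_eq_one_iff_mul_comm.2 (h.Aab d hd _ h9)
      rw [h12] at h11
      exact (commutatorElement_eq_one_iff_mul_comm.1 h11).symm
    exact mem_centralizer_iff.2 fun t ht => mem_centralizer_singleton_iff.1 (h10 ht)
  have h9 : A ⊓ D = (T ⊔ C) ⊓ D :=
    eq_of_le_of_card_ge (le_inf (h8.trans le_sup_right) inf_le_right) (h4 (by rw [← h6]))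
  apply h1
  have h10 : T ≤ (T ⊔ C) ⊓ D := le_inf le_sup_left hTD
  rw [← h9] at h10
  exact h10.trans inf_le_left

end Best

/-- the last element of a chain of commutators -/
theorem exists_last {P T A : Subgroup G} (hP : Group.IsNilpotent P) (hTP : T ≤ P) (hAP : A ≤ P)
    (hT : ∀ c ∈ A, ∀ t ∈ T, ⁅c, t⁆ ∈ T) (Φ : G → Prop) (h1 : Φ 1) (hex : ∃ t ∈ T, ¬ Φ t) :
    ∃ t ∈ T, ¬ Φ t ∧ ∀ c ∈ A, Φ ⁅c, t⁆ := by
  by_contra hcon
  push Not at hcon
  obtain ⟨n, hn⟩ := (Subgroup.isNilpotent_iff_lowerCentralSeries P).1 hP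
  have key : ∀ m : ℕ, ∃ t ∈ T, t ∈ P.lowerCentralSeries m ∧ ¬ Φ t := by
    intro m
    induction m with
    | zero =>
      obtain ⟨t, ht, hΦ⟩ := hex
      exact ⟨t, ht, hTP ht, hΦ⟩
    | succ m ih =>
      obtain ⟨t, ht, htm, hΦ⟩ := ih
      obtain ⟨c, hc, hc'⟩ := hcon t ht hΦ
      refine ⟨⁅c, t⁆, hT c hc t ht, ?_, hc'⟩
      have : ⁅c, t⁆ ∈ ⁅P.lowerCentralSeries m, P⁆ := by
        rw [commutator_comm]
        exact commutator_mem_commutator (hAP hc) htm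
      exact this
  obtain ⟨t, -, ht, hΦ⟩ := key n
  rw [hn, mem_bot] at ht
  rw [ht] at hΦ
  exact hΦ h1

namespace Best

variable {S Q R D A : Subgroup G} (h : Best S Q R D A)

include h

/-- the bound 3 -/
theorem deg3 [Finite G] (hS : Group.IsNilpotent S) {y : G} (hy : y ∈ Q) (hTD : elemComm y A ≤ D)
    (hT : ∀ s ∈ elemComm y A, ∀ t ∈ elemComm y A, s * t = t * s) {K : Subgroup G}
    (hK : ∀ a ∈ A, a ∈ Q → ⁅y, a⁆ ∈ K) (hKA : ∀ a ∈ A, ∀ k ∈ K, a * k * a⁻¹ ∈ K) :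
    ∀ a ∈ A, ∀ b ∈ A, ∀ c ∈ A, ⁅a, ⁅b, ⁅y, c⁆⁆⁆ ∈ K := by
  have hA := h.Aab
  set T := elemComm y A with hTd
  by_cases hF : ∀ t ∈ T, ∀ a ∈ A, ∀ b ∈ A, ⁅a, ⁅b, t⁆⁆ = 1
  · intro a ha b hb c hc
    rw [hF _ (mem_elemComm y A hc) a ha b hb]
    exact one_mem K
  push Not at hF
  have hTS : T ≤ S := elemComm_le h.AS (h.QS hy)
  obtain ⟨t₀, ht₀, hn, hz⟩ := exists_last hS hTS h.AS (fun c hc t ht => comm_mem hc ht)
    (fun t => ∀ a ∈ A, ∀ b ∈ A, ⁅a, ⁅b, t⁆⁆ = 1) (by intro a _ b _; simp) (by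
      obtain ⟨t, ht, a, ha, b, hb, hab⟩ := hF
      exact ⟨t, ht, fun hh => hab (hh a ha b hb)⟩)
  obtain ⟨-, hbij⟩ := repl h.mem (h.QS hy) hT
  obtain ⟨b₀, hb₀, hc₀⟩ := hbij t₀ ht₀
  set z := ⁅y, b₀⁆ with hzd
  have hzT : z ∈ T := mem_elemComm y A hb₀
  have hc₀T : z⁻¹ * t₀ ∈ T := mul_mem (inv_mem hzT) ht₀
  have hAone : ∀ a ∈ A, ∀ c ∈ A, ⁅a, c⁆ = 1 := fun a ha c hc => commutatorElement_eq_one_iff_mul_comm.2 (hA a ha c hc)
  -- commutators with `z` and `t₀` agree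
  have hzt : ∀ a ∈ A, ⁅a, z⁆ = ⁅a, t₀⁆ := by
    intro a ha
    have h1 := comm_mul hT ha hzT hc₀T
    rw [mul_inv_cancel_left, hAone a ha _ hc₀, mul_one] at h1
    exact h1.symm
  -- the subgroup `[z, A]`
  have hT' : elemComm z A ≤ T := by
    rw [elemComm_le_iff]
    intro a ha
    have h1 := inv_mem (comm_mem ha hzT)
    rwa [commutatorElement_inv] at h1
  have hzn : ∀ e ∈ A, ⁅z, e⁆ = ⁅e, z⁆⁻¹ := fun e _ => (commutatorElement_inv e z).symm
  rcases h.dich (h.DQ (hTD hzT)) (hT'.trans hTD) (fun s hs t ht => hT s (hT' hs) t (hT' ht)) with h1 | h1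
  · exfalso
    apply hn
    intro a ha b hb
    rw [← hzt b hb]
    have h2 : ⁅z, b⁆ ∈ A := h1 (mem_elemComm z A hb)
    rw [hzn b hb] at h2
    exact hAone a ha _ ((inv_mem_iff).1 h2)
  · -- third commutators
    have h3 : ∀ t ∈ T, ∀ e ∈ A, ∀ b ∈ A, ⁅e, ⁅b, ⁅b₀, t⁆⁆⁆ = 1 := by
      intro t ht e he b hb
      have h4 : T ≤ { carrier := {t | t ∈ T ∧ ⁅e, ⁅b, ⁅b₀, t⁆⁆⁆ = 1}
                      mul_mem' := by
                        rintro s t ⟨hs, hs'⟩ ⟨ht, ht'⟩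
                        refine ⟨mul_mem hs ht, ?_⟩
                        have m1 := comm_mem hb₀ hs
                        have m2 := comm_mem hb₀ ht
                        rw [comm_mul hT hb₀ hs ht, comm_mul hT hb m1 m2,
                          comm_mul hT he (comm_mem hb m1) (comm_mem hb m2), hs', ht', mul_one]
                      one_mem' := ⟨one_mem _, by simp⟩
                      inv_mem' := by
                        rintro s ⟨hs, hs'⟩
                        refine ⟨inv_mem hs, ?_⟩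
                        have m1 := comm_mem hb₀ hs
                        rw [comm_inv hT hb₀ hs, comm_inv hT hb m1, comm_inv hT he (comm_mem hb m1), hs', inv_one] :
                      Subgroup G } := by
        refine (elemComm_le_iff y A _).2 ?_
        intro d hd
        refine ⟨mem_elemComm y A hd, ?_⟩
        rw [swap hA hT hb₀ hd, ← hzd, hzt d hd]
        exact hz d hd e he b hb
      exact (h4 ht).2
    -- the main step
    have h4 : ∀ t ∈ T, ∀ b ∈ A, ∃ k ∈ K, k ∈ T ∧ k⁻¹ * ⁅b, t⁆ ∈ A := by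
      intro t ht b hb
      obtain ⟨a, ha, hac⟩ := hbij ⁅b, t⁆ (comm_mem hb ht)
      refine ⟨⁅y, a⁆, hK a ha (h1 ⟨ha, ?_⟩), mem_elemComm y A ha, hac⟩
      have hya := mem_elemComm y A ha
      have hbt := comm_mem hb ht
      have h5 : elemComm z A ≤ centralizer ({a} : Set G) := by
        rw [elemComm_le_iff]
        intro e he
        rw [mem_centralizer_singleton_iff, ← commutatorElement_eq_one_iff_mul_comm, hzn e he,
          ← commutatorElement_inv, comm_inv hT ha (comm_mem he hzT), inv_inv]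
        rw [comm_comm hA hT ha he hzT, hzd, swap hA hT ha hb₀]
        have h6 : ⁅b₀, ⁅y, a⁆⁆ = ⁅b₀, ⁅b, t⁆⁆ := by
          have h7 := comm_mul hT hb₀ hya (mul_mem (inv_mem hya) hbt)
          rw [mul_inv_cancel_left, hAone b₀ hb₀ _ hac, mul_one] at h7
          exact h7.symm
        rw [h6, comm_comm hA hT hb₀ hb ht]
        exact h3 t ht e he b hb
      exact mem_centralizer_iff.2 fun s hs => mem_centralizer_singleton_iff.1 (h5 hs)
    intro a ha b hb c hc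
    obtain ⟨k, hk, hkT, hkA⟩ := h4 _ (mem_elemComm y A hc) b hb
    have hbt := comm_mem hb (mem_elemComm y A hc)
    have h5 := comm_mul hT ha hkT (mul_mem (inv_mem hkT) hbt)
    rw [mul_inv_cancel_left, hAone a ha _ hkA, mul_one] at h5
    rw [h5, commutatorElement_def]
    exact mul_mem (hKA a ha k hk) (inv_mem hk)

end Best

end Cfsg.Agent.H587.S3068
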