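import Cfsg.Agent.H39.FTMain
import Cfsg.Agent.PLocal.ThompsonJA
import Cfsg.Agent.Transfer.Tate

/-!
# S3068: the reduction (helper587)

`Core p` is the local statement; `iso_of_core` gives `G / O^p(G) ≅ M / O^p(M)`.
-/

set_option autoImplicit false

namespace Cfsg.Agent.H587.S3068

open Subgroup Cfsg Cfsg.Agent.H39 Cfsg.Agent.PLocal.ThompsonJA
open scoped commutatorElement

universe u

/-- the functor `J` -/
def JF : Fn.{u} := fun Q _ => thompsonSubgroupA Q

theorem induced_JF {X : Type u} [Group X] (P : Subgroup X) :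
    inducedFunctor (G := X) JF P = thompsonSubgroupAOf P := rfl

theorem thompsonSubgroupAOf_top {Q : Type*} [Group Q] :
    thompsonSubgroupAOf (⊤ : Subgroup Q) = thompsonSubgroupA Q := by
  rw [thompsonSubgroupAOf_eq_sSup, thompsonSubgroupA]
  congr 1
  ext A
  exact ⟨fun h => ⟨h.2.1, fun B hB => h.2.2 B le_top hB⟩, fun h => ⟨le_top, h.1, fun B _ hB => h.2 B hB⟩⟩

theorem charJF {p : ℕ} [Fact p.Prime] : IsCharPFunctor.{u} p JF := by
  constructor
  · intro Q _ _ hQ hnt h
    have h1 := centerThompsonAOf_ne_bot (p := p) (⊤ : Subgroup Q) (hQ.to_subgroup _) top_ne_bot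
    apply h1
    rw [eq_bot_iff]
    refine (centerThompsonAOf_le_thompsonSubgroupAOf _).trans ?_
    rw [thompsonSubgroupAOf_top]
    exact h.le
  · intro Q R _ _ _ hQ φ
    have h1 := map_thompsonSubgroupAOf φ.toMonoidHom φ.injective (⊤ : Subgroup Q)
    rw [Subgroup.map_top_of_surjective _ φ.surjective, thompsonSubgroupAOf_top, thompsonSubgroupAOf_top] at h1
    exact h1

/-- the core statement -/
def Core (p : ℕ) : Prop := ∀ (G : Type u) [Group G] [Finite G] (S : Sylow p G) (M : Subgroup G),
  centralizer (pCore p G : Set G) ≤ pCore p G → M ≠ ⊤ →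
  (∀ H : Subgroup G, (S : Subgroup G) ≤ H → H ≠ ⊤ → H ≤ M) →
  ¬ (thompsonSubgroupAOf (S : Subgroup G)).Normal →
  ∃ u : G, u ∈ (S : Subgroup G) ∧ u ∉ pCore p G ∧ Good p (pCore p G) u

theorem ft_of_core {p : ℕ} [Fact p.Prime] (hcore : Core.{u} p) :
    ∀ n : ℕ, ∀ (G : Type u) [Group G] [Finite G], Nat.card G = n → FT p {JF} G := by
  intro n
  induction n using Nat.strong_induction_on with
  | _ n ih =>
    intro G _ _ hn
    have h𝓦 : ∀ W' ∈ ({JF} : Set Fn.{u}), IsCharPFunctor.{u} p W' := by
      rintro W' rfl; exact charJF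
    by_contra hG
    obtain ⟨S⟩ : Nonempty (Sylow p G) := inferInstance
    obtain ⟨h1, ⟨h2, h3⟩, -, h4⟩ := minimal_failure h𝓦 ⟨JF, rfl⟩
      (fun X _ _ _ hlt => ih _ (hn ▸ hlt) X rfl) hG S rfl rfl
    have hnn : ¬ (thompsonSubgroupAOf (S : Subgroup G)).Normal := fun h =>
      hG (ft_of_normal h𝓦 S (W := JF) rfl h)
    obtain ⟨u, hu1, hu2, hu3⟩ := hcore G S _ h1 h2 h3 hnn
    exact h4 u hu1 hu2 hu3

theorem iso_of_ft {G : Type u} [Group G] [Finite G] {p : ℕ} [Fact p.Prime] (h : FT p {JF} G) (S : Sylow p G)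
    [hn : (pResidual p G).Normal]
    [hm : (pResidual p ↥(normalizer (thompsonSubgroupAOf (S : Subgroup G) : Set G))).Normal] :
    Nonempty (G ⧸ pResidual p G ≃*
      ↥(normalizer (thompsonSubgroupAOf (S : Subgroup G) : Set G)) ⧸
        pResidual p ↥(normalizer (thompsonSubgroupAOf (S : Subgroup G) : Set G))) := by
  set M := normalizer (thompsonSubgroupAOf (S : Subgroup G) : Set G) with hM
  have hSM : (S : Subgroup G) ≤ M := le_normalizer.trans (normalizer_le_normalizer_thompsonSubgroupAOf _)
  have h1 := h S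
  rw [focalI_singleton, induced_JF, top_inf_eq, ← hM] at h1
  have hMi : ¬ p ∣ M.index := fun hd => S.not_dvd_index (hd.trans (index_dvd_of_le hSM))
  have hSi : ¬ p ∣ ((S : Subgroup G).subgroupOf M).index := fun hd =>
    S.not_dvd_index (hd.trans (relIndex_dvd_index_of_le hSM))
  have hA : IsPGroup p (Multiplicative (ZMod p)) := IsPGroup.of_card (n := 1) (by simp)
  have hext : ∀ f : M →* Multiplicative (ZMod p), ∃ F : G →* Multiplicative (ZMod p), ∀ h : M, F h = f h := by
    intro f
    obtain ⟨F, hF⟩ := Transfer.Tate.hom_extends_of_fusion (S : Subgroup G) S.not_dvd_index hA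
      (f.comp (inclusion hSM)) (by
        intro x y g hxy
        have h2 : (x : G)⁻¹ * y ∈ (S : Subgroup G) ⊓ ⁅(⊤ : Subgroup G), ⊤⁆ := by
          refine ⟨(S : Subgroup G).mul_mem ((S : Subgroup G).inv_mem x.2) y.2, ?_⟩
          have e : (x : G)⁻¹ * y = ⁅(x : G)⁻¹, g⁆ := by rw [commutatorElement_def, ← hxy]; group
          rw [e]
          exact commutator_mem_commutator (mem_top _) (mem_top _)
        have h3 := (h1 h2).2
        have h4 : (inclusion hSM x)⁻¹ * inclusion hSM y ∈ (_root_.commutator M : Subgroup M) := by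
          have h5 : (⁅(⊤ : Subgroup M), (⊤ : Subgroup M)⁆).map M.subtype = ⁅M, M⁆ := by
            rw [map_commutator, ← MonoidHom.range_eq_map, M.range_subtype]
          rw [← h5] at h3
          obtain ⟨z, hz, hzx⟩ := h3
          have h6 : z = (inclusion hSM x)⁻¹ * inclusion hSM y := Subtype.ext hzx
          rw [← h6]; exact hz
        have h5 : f ((inclusion hSM x)⁻¹ * inclusion hSM y) = 1 := by
          have h6 := Abelianization.commutator_subset_ker f h4
          exact h6
        rw [map_mul, map_inv, inv_mul_eq_one] at h5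
        exact h5)
    refine ⟨F, ?_⟩
    have := Transfer.Residual.hom_eq_of_eq_on (H := (S : Subgroup G).subgroupOf M) hSi hA
      (f := F.comp M.subtype) (f' := f) (by
        intro x hx
        have := hF ⟨x, hx⟩
        exact this)
    intro x
    exact DFunLike.congr_fun this x
  have h2 := Transfer.Tate.tate_residual M hMi hext
  -- the isomorphism
  let f : M →* G ⧸ pResidual p G := (QuotientGroup.mk' (pResidual p G)).comp M.subtype
  have hker : f.ker = pResidual p M := by
    ext x
    rw [MonoidHom.mem_ker]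
    change ((x : G) : G ⧸ pResidual p G) = 1 ↔ _
    rw [QuotientGroup.eq_one_iff]
    constructor
    · intro hx
      have h3 : (x : G) ∈ (pResidual p M).map M.subtype := by rw [← h2]; exact ⟨x.2, hx⟩
      obtain ⟨z, hz, hzx⟩ := h3
      have h6 : z = x := Subtype.ext hzx
      rw [← h6]; exact hz
    · intro hx
      have h3 : (x : G) ∈ M ⊓ pResidual p G := by rw [h2]; exact mem_map_of_mem _ hx
      exact h3.2
  have hsur : Function.Surjective f := by
    rw [← MonoidHom.range_eq_top]
    have h3 : IsPGroup p (G ⧸ pResidual p G) := Transfer.Residual.isPGroup_quotient_pResidual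
    have h4 : f.range = M.map (QuotientGroup.mk' (pResidual p G)) := by
      rw [MonoidHom.range_comp, M.range_subtype]
    rw [← index_eq_one, h4]
    obtain ⟨k, hk⟩ := h3.index (M.map (QuotientGroup.mk' (pResidual p G)))
    have h5 : (M.map (QuotientGroup.mk' (pResidual p G))).index ∣ M.index :=
      index_map_dvd M (QuotientGroup.mk'_surjective _)
    rw [hk] at h5 ⊢
    rcases Nat.eq_zero_or_pos k with rfl | hk0
    · simp
    · exact absurd ((dvd_pow_self p hk0.ne').trans h5) hMi
  have e1 := QuotientGroup.quotientKerEquivOfSurjective f hsur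
  have e2 : M ⧸ pResidual p M ≃* M ⧸ f.ker := QuotientGroup.quotientMulEquivOfEq hker.symm
  exact ⟨(e2.trans e1).symm⟩

/-- **S3068 from the core statement** -/
theorem iso_of_core {G : Type u} [Group G] [Finite G] {p : ℕ} [Fact p.Prime] (hcore : Core.{u} p) (S : Sylow p G)
    [hn : (pResidual p G).Normal]
    [hm : (pResidual p ↥(normalizer (thompsonSubgroupAOf (S : Subgroup G) : Set G))).Normal] :
    Nonempty (G ⧸ pResidual p G ≃*
      ↥(normalizer (thompsonSubgroupAOf (S : Subgroup G) : Set G)) ⧸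
        pResidual p ↥(normalizer (thompsonSubgroupAOf (S : Subgroup G) : Set G))) :=
  iso_of_ft (ft_of_core hcore _ G rfl) S

end Cfsg.Agent.H587.S3068
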