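import Cfsg.Agent.PLocal.ThompsonReplacement
import Cfsg.Agent.PLocal.ThompsonJA

/-!
# S3068: Thompson replacement for abelian subgroups of largest order (helper587)

`y ∈ P`, `A` an abelian subgroup of `P` of largest order, `T = [y, A]` abelian. Then `T C_A(T)` is again an abelian
subgroup of largest order, and every element of `T` is `[y, a] c` with `a ∈ A`, `c ∈ T ∩ A`.
-/

set_option autoImplicit false
set_option linter.unusedSectionVars false

namespace Cfsg.Agent.H587.S3068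

open Subgroup Cfsg Cfsg.Agent.PLocal Cfsg.Agent.PLocal.ThompsonJA
open Cfsg.Agent.PLocal.ThompsonReplacement (elemComm mem_elemComm elemComm_le_iff)
open scoped commutatorElement Pointwise

section Cross

variable {G : Type*} [Group G] {A : Subgroup G} {y : G}

theorem cmul (y a b : G) : ⁅y, a * b⁆ = ⁅y, a⁆ * (a * ⁅y, b⁆ * a⁻¹) := by
  simp only [commutatorElement_def]; group

theorem conj_comm_eq (y a b : G) : a * ⁅y, b⁆ * a⁻¹ = ⁅y, a⁆⁻¹ * ⁅y, a * b⁆ := by
  rw [cmul]; group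

theorem elemComm_conj {a : G} (ha : a ∈ A) {t : G} (ht : t ∈ elemComm y A) : a * t * a⁻¹ ∈ elemComm y A := by
  have h : elemComm y A ≤ (elemComm y A).comap (MulAut.conj a).toMonoidHom := by
    rw [elemComm_le_iff]
    intro b hb
    show a * ⁅y, b⁆ * a⁻¹ ∈ elemComm y A
    rw [conj_comm_eq]
    exact mul_mem (inv_mem (mem_elemComm y A ha)) (mem_elemComm y A (mul_mem ha hb))
  exact h ht

theorem comm_mem {a : G} (ha : a ∈ A) {t : G} (ht : t ∈ elemComm y A) : ⁅a, t⁆ ∈ elemComm y A := by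
  rw [commutatorElement_def]
  exact mul_mem (elemComm_conj ha ht) (inv_mem ht)

variable (hA : ∀ a ∈ A, ∀ b ∈ A, a * b = b * a)
  (hT : ∀ s ∈ elemComm y A, ∀ t ∈ elemComm y A, s * t = t * s)

include hA hT in
theorem swap {a b : G} (ha : a ∈ A) (hb : b ∈ A) : ⁅a, ⁅y, b⁆⁆ = ⁅b, ⁅y, a⁆⁆ := by
  have h1 := mem_elemComm y A ha
  have h2 := mem_elemComm y A hb
  have h3 := mem_elemComm y A (mul_mem ha hb)
  have e1 : ⁅a, ⁅y, b⁆⁆ = ⁅y, a⁆⁻¹ * ⁅y, a * b⁆ * ⁅y, b⁆⁻¹ := by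
    rw [commutatorElement_def a, conj_comm_eq]
  have e2 : ⁅b, ⁅y, a⁆⁆ = ⁅y, b⁆⁻¹ * ⁅y, a * b⁆ * ⁅y, a⁆⁻¹ := by
    rw [commutatorElement_def b, conj_comm_eq, hA b hb a ha]
  rw [e1, e2, hT _ (inv_mem h1) _ h3, hT _ (inv_mem h2) _ h3, mul_assoc, mul_assoc, hT _ (inv_mem h1) _ (inv_mem h2)]

include hT in
theorem comm_mul {a : G} (ha : a ∈ A) {s t : G} (hs : s ∈ elemComm y A) (ht : t ∈ elemComm y A) :
    ⁅a, s * t⁆ = ⁅a, s⁆ * ⁅a, t⁆ := by
  have h1 := elemComm_conj ha hs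
  have h2 := elemComm_conj ha ht
  calc ⁅a, s * t⁆ = (a * s * a⁻¹) * ((a * t * a⁻¹) * t⁻¹) * s⁻¹ := by rw [commutatorElement_def]; group
    _ = (a * s * a⁻¹) * (s⁻¹ * ((a * t * a⁻¹) * t⁻¹)) := by
        rw [mul_assoc, hT _ (mul_mem h2 (inv_mem ht)) _ (inv_mem hs)]
    _ = ⁅a, s⁆ * ⁅a, t⁆ := by rw [commutatorElement_def, commutatorElement_def]; group

include hT in
theorem comm_inv {a : G} (ha : a ∈ A) {t : G} (ht : t ∈ elemComm y A) : ⁅a, t⁻¹⁆ = ⁅a, t⁆⁻¹ := by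
  have h1 := comm_mul hT ha ht (inv_mem ht)
  rw [mul_inv_cancel, commutatorElement_one_right] at h1
  exact (inv_eq_of_mul_eq_one_right h1.symm).symm

include hA hT in
theorem comm_comm {a b : G} (ha : a ∈ A) (hb : b ∈ A) {t : G} (ht : t ∈ elemComm y A) :
    ⁅a, ⁅b, t⁆⁆ = ⁅b, ⁅a, t⁆⁆ := by
  have h1 := elemComm_conj ha ht
  have h2 := elemComm_conj hb ht
  have h3 := elemComm_conj (mul_mem ha hb) ht
  have e1 : ⁅a, ⁅b, t⁆⁆ = ((a * b) * t * (a * b)⁻¹) * (a * t * a⁻¹)⁻¹ * (t * (b * t * b⁻¹)⁻¹) := by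
    simp only [commutatorElement_def]; group
  have e2 : ⁅b, ⁅a, t⁆⁆ = ((a * b) * t * (a * b)⁻¹) * (b * t * b⁻¹)⁻¹ * (t * (a * t * a⁻¹)⁻¹) := by
    rw [hA a ha b hb]; simp only [commutatorElement_def]; group
  rw [e1, e2, mul_assoc _ _ (t * (b * t * b⁻¹)⁻¹), mul_assoc _ _ (t * (a * t * a⁻¹)⁻¹)]
  congr 1
  rw [hT _ ht _ (inv_mem h2), hT _ ht _ (inv_mem h1), ← mul_assoc, ← mul_assoc, hT _ (inv_mem h1) _ (inv_mem h2)]

end Cross

section Repl

variable {G : Type*} [Group G] [Finite G] {P A : Subgroup G} {y : G}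

theorem elemComm_le (hAP : A ≤ P) (hy : y ∈ P) : elemComm y A ≤ P := by
  rw [elemComm_le_iff]
  intro a ha
  rw [commutatorElement_def]
  exact mul_mem (mul_mem (mul_mem hy (hAP ha)) (inv_mem hy)) (inv_mem (hAP ha))

theorem repl (hA : A ∈ maxAbelianIn P) (hy : y ∈ P)
    (hT : ∀ s ∈ elemComm y A, ∀ t ∈ elemComm y A, s * t = t * s) :
    elemComm y A ⊔ (A ⊓ centralizer (elemComm y A : Set G)) ∈ maxAbelianIn P ∧
    ∀ t ∈ elemComm y A, ∃ a ∈ A, ⁅y, a⁆⁻¹ * t ∈ A := by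
  classical
  obtain ⟨hAP, hAc, hAm⟩ := hA
  have hAc' := (ThompsonJA.isMulCommutative_iff A).mp hAc
  set T := elemComm y A with hTd
  set C := A ⊓ centralizer (T : Set G) with hC
  have hTP : T ≤ P := elemComm_le hAP hy
  have hCT : C ≤ centralizer (T : Set G) := inf_le_right
  -- the subgroup `T C`
  have hB : IsMulCommutative (T ⊔ C : Subgroup G) := by
    rw [ThompsonJA.isMulCommutative_iff]
    have h1 : T ⊔ C ≤ centralizer (T : Set G) := by
      refine sup_le (fun s hs => mem_centralizer_iff.2 fun t ht => hT t ht s hs) hCT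
    have h2 : T ⊔ C ≤ centralizer ((T ⊔ C : Subgroup G) : Set G) := by
      rw [le_centralizer_iff]
      refine sup_le (le_centralizer_iff.1 h1) ?_
      rw [le_centralizer_iff]
      exact sup_le (le_centralizer_iff.1 hCT) fun s hs => mem_centralizer_iff.2 fun t ht => hAc' t ht.1 s hs.1
    intro s hs t ht
    exact (mem_centralizer_iff.1 (h2 hs) t ht).symm
  have hBP : T ⊔ C ≤ P := sup_le hTP (inf_le_left.trans hAP)
  have hle := hAm _ hBP hB
  -- the injection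
  let f : A ⧸ C.subgroupOf A → T ⧸ A.subgroupOf T :=
    fun q => QuotientGroup.mk ⟨⁅y, (q.out : G)⁆, mem_elemComm y A q.out.2⟩
  have hf : Function.Injective f := by
    intro q q' h
    have h1 := QuotientGroup.eq.1 h
    rw [mem_subgroupOf] at h1
    simp only [InvMemClass.coe_inv, Subgroup.coe_mul] at h1
    rw [← Quotient.out_eq' q, ← Quotient.out_eq' q']
    refine QuotientGroup.eq.2 ?_
    rw [mem_subgroupOf]
    generalize hga : q.out = a at *
    generalize hgb : q'.out = b at *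
    obtain ⟨a, ha⟩ := a
    obtain ⟨b, hb⟩ := b
    simp only [InvMemClass.coe_inv, Subgroup.coe_mul] at h1 ⊢
    have hc : a⁻¹ * b ∈ A := A.mul_mem (A.inv_mem ha) hb
    have e1 : ⁅y, a⁆⁻¹ * ⁅y, b⁆ = a * ⁅y, a⁻¹ * b⁆ * a⁻¹ := by
      rw [conj_comm_eq, mul_inv_cancel_left]
    rw [e1] at h1
    have h2 : ⁅y, a⁻¹ * b⁆ ∈ A := by
      have h3 := mul_mem (mul_mem (inv_mem ha) h1) ha
      have h4 : a⁻¹ * (a * ⁅y, a⁻¹ * b⁆ * a⁻¹) * a = ⁅y, a⁻¹ * b⁆ := by group
      rwa [h4] at h3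
    refine ⟨hc, ?_⟩
    have h5 : T ≤ centralizer ({a⁻¹ * b} : Set G) := by
      rw [hTd, elemComm_le_iff]
      intro d hd
      rw [mem_centralizer_singleton_iff]
      have h6 := swap hAc' hT hc hd
      have h7 : ⁅d, ⁅y, a⁻¹ * b⁆⁆ = 1 := commutatorElement_eq_one_iff_mul_comm.2 (hAc' d hd _ h2)
      rw [h7] at h6
      exact (commutatorElement_eq_one_iff_mul_comm.1 h6).symm
    exact mem_centralizer_iff.2 fun t ht => mem_centralizer_singleton_iff.1 (h5 ht)
  have hf1 := Nat.card_le_card_of_injective f hf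
  -- the orders
  have hTC : T ⊓ C = T ⊓ A := by
    apply le_antisymm
    · exact inf_le_inf_left _ inf_le_left
    · exact le_inf inf_le_left (le_inf inf_le_right fun s hs => mem_centralizer_iff.2 fun t ht => hT t ht s hs.1)
  have hprod : ((T : Set G) * (C : Set G) : Set G) = ((T ⊔ C : Subgroup G) : Set G) := by
    rw [Subgroup.coe_mul_of_right_le_normalizer_left T C (hCT.trans (centralizer_le_normalizer _))]
  have h1 := Cfsg.Agent.Lib.ProductSet.card_mul_card_inf T C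
  rw [hprod, hTC] at h1
  have h1' : Nat.card (T ⊔ C : Subgroup G) * Nat.card (T ⊓ A : Subgroup G) = Nat.card T * Nat.card C := h1
  have h2 : Nat.card (T ⊓ A : Subgroup G) * Nat.card (T ⧸ A.subgroupOf T) = Nat.card T :=
    ThompsonReplacement.card_inf_mul_relIndex T A
  have h3 : Nat.card C * Nat.card (A ⧸ C.subgroupOf A) = Nat.card A := by
    have := ThompsonReplacement.card_inf_mul_relIndex A C
    have e : A ⊓ C = C := inf_eq_right.2 inf_le_left
    rwa [e] at this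
  have hTA : 0 < Nat.card (T ⊓ A : Subgroup G) := Nat.card_pos
  have hC0 : 0 < Nat.card C := Nat.card_pos
  have h4 : Nat.card (T ⊔ C : Subgroup G) = Nat.card (T ⧸ A.subgroupOf T) * Nat.card C := by
    rw [← h2] at h1'
    have : Nat.card (T ⊓ A : Subgroup G) * Nat.card (T ⊔ C : Subgroup G) =
      Nat.card (T ⊓ A : Subgroup G) * (Nat.card (T ⧸ A.subgroupOf T) * Nat.card C) := by
      rw [mul_comm, h1']; ring
    exact Nat.eq_of_mul_eq_mul_left hTA this
  have h5 : Nat.card (T ⧸ A.subgroupOf T) ≤ Nat.card (A ⧸ C.subgroupOf A) := by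
    rw [h4, ← h3, mul_comm] at hle
    exact Nat.le_of_mul_le_mul_left hle hC0
  have h6 : Nat.card (T ⧸ A.subgroupOf T) = Nat.card (A ⧸ C.subgroupOf A) := le_antisymm h5 hf1
  have hbij : Function.Bijective f := (Nat.bijective_iff_injective_and_card f).2 ⟨hf, h6.symm⟩
  constructor
  · refine ⟨hBP, hB, fun B' hB' hBc' => ?_⟩
    rw [h4, h6, mul_comm, h3]
    exact hAm B' hB' hBc'
  · intro t ht
    obtain ⟨q, hq⟩ := hbij.2 (QuotientGroup.mk ⟨t, ht⟩)
    have h7 := QuotientGroup.eq.1 hq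
    rw [mem_subgroupOf] at h7
    exact ⟨q.out, q.out.2, h7⟩

end Repl

end Cfsg.Agent.H587.S3068
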