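import Cfsg.Agent.H587.S3068.Dich
import Cfsg.Agent.H587.S3068.Red

/-!
# S3068: the pieces T1, T2, T3 in the form of the plan (helper587)
-/

set_option autoImplicit false
set_option linter.unusedSectionVars false

namespace Cfsg.Agent.H587.S3068

open Subgroup Cfsg Cfsg.Agent.PLocal Cfsg.Agent.PLocal.ThompsonJA Cfsg.Agent.H215.J7
open Cfsg.Agent.PLocal.ThompsonReplacement (elemComm mem_elemComm elemComm_le_iff)
open scoped commutatorElement

universe u

variable {G : Type u} [Group G] [Finite G] {p : ℕ} [Fact p.Prime]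

theorem ab_iff {A : Subgroup G} : Ab A ↔ IsMulCommutative A := (ThompsonJA.isMulCommutative_iff A).symm

/-! ### T1 -/

theorem t1_reduction (_hp : 7 ≤ p)
    (hgood : ∀ (X : Type u) [Group X] [Finite X] (S : Sylow p X) (M : Subgroup X), Cfg p (S : Subgroup X) M →
      ¬ thompsonSubgroupAOf (S : Subgroup X) ≤ pCore p X →
      ∃ g : X, g ∈ (S : Subgroup X) ∧ g ∉ pCore p X ∧ H39.Good p (pCore p X) g)
    (S : Sylow p G)
    [hn : (Cfsg.pResidual p G).Normal]
    [hm : (Cfsg.pResidual p ↥(Subgroup.normalizer (Cfsg.thompsonSubgroupAOf (S : Subgroup G) : Set G))).Normal] :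
    Nonempty (G ⧸ Cfsg.pResidual p G ≃*
      ↥(Subgroup.normalizer (Cfsg.thompsonSubgroupAOf (S : Subgroup G) : Set G)) ⧸
        Cfsg.pResidual p ↥(Subgroup.normalizer (Cfsg.thompsonSubgroupAOf (S : Subgroup G) : Set G))) := by
  refine iso_of_core (p := p) ?_ S
  intro X _ _ S' M h1 h2 h3 h4
  refine hgood X S' M ⟨h1, h2, h3⟩ fun hle => h4 ?_
  have h5 := thompsonSubgroupAOf_eq_of_le hle (Lib.Cores.pCore_le_sylow S')
  rw [← h5, ← normalizer_eq_top_iff, eq_top_iff]
  refine le_trans ?_ (normalizer_le_normalizer_thompsonSubgroupAOf _)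
  have := Lib.Cores.pCore_normal (G := X) p
  rw [normalizer_eq_top]

/-! ### T2 -/

theorem t2_exists_pick (S : Sylow p G) (hJ : ¬ thompsonSubgroupAOf (S : Subgroup G) ≤ pCore p G)
    (R D : Subgroup G) : ∃ A : Subgroup G, Pick (S : Subgroup G) (pCore p G) R D A := by
  classical
  have hex : ∃ A₀ ∈ maxAbelianIn (S : Subgroup G), ¬ A₀ ≤ pCore p G := by
    by_contra hcon
    push Not at hcon
    apply hJ
    rw [thompsonSubgroupAOf_eq_sSup]
    exact sSup_le hcon
  obtain ⟨A₀, hA₀, hA₀Q⟩ := hex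
  set Q := pCore p G with hQ
  set N := Nat.card G + 1 with hN
  obtain ⟨A, ⟨hA1, hA2⟩, hA3⟩ := Set.exists_max_image {A : Subgroup G | A ∈ maxAbelianIn (S : Subgroup G) ∧ ¬ A ≤ Q}
    (fun A => (Nat.card (A ⊓ ZZ Q : Subgroup G) * N + Nat.card (A ⊓ R : Subgroup G)) * N + Nat.card (A ⊓ D : Subgroup G))
    (Set.toFinite _) ⟨A₀, hA₀, hA₀Q⟩
  have hlt : ∀ K : Subgroup G, Nat.card K < N := fun K => Nat.lt_succ_of_le (Subgroup.card_le_card_group _)
  have hmem : ∀ B ≤ (S : Subgroup G), Ab B → Nat.card B = Nat.card A → ¬ B ≤ Q →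
      (Nat.card (B ⊓ ZZ Q : Subgroup G) * N + Nat.card (B ⊓ R : Subgroup G)) * N + Nat.card (B ⊓ D : Subgroup G) ≤
      (Nat.card (A ⊓ ZZ Q : Subgroup G) * N + Nat.card (A ⊓ R : Subgroup G)) * N + Nat.card (A ⊓ D : Subgroup G) := by
    intro B hB hBc hc hBQ
    exact hA3 B ⟨⟨hB, ab_iff.1 hBc, fun C hC hCc => by rw [hc]; exact hA1.2.2 C hC hCc⟩, hBQ⟩
  refine ⟨A, hA1.1, ab_iff.2 hA1.2.1, fun B hB hBc => hA1.2.2 B hB (ab_iff.1 hBc), hA2, ?_, ?_, ?_⟩
  · intro B hB hBc hc hBQ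
    have h1 := hmem B hB hBc hc hBQ
    by_contra h4
    have h5 : Nat.card (A ⊓ ZZ Q : Subgroup G) + 1 ≤ Nat.card (B ⊓ ZZ Q : Subgroup G) := by omega
    have h6 := Nat.mul_le_mul_right N h5
    rw [add_mul, one_mul] at h6
    have h7 := hlt (A ⊓ R)
    have h8 := hlt (A ⊓ D)
    have h9 : (Nat.card (A ⊓ ZZ Q : Subgroup G) * N + Nat.card (A ⊓ R : Subgroup G)) + 1 ≤
      Nat.card (B ⊓ ZZ Q : Subgroup G) * N + Nat.card (B ⊓ R : Subgroup G) := by omega
    have h10 := Nat.mul_le_mul_right N h9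
    rw [add_mul _ 1 N, one_mul] at h10
    omega
  · intro B hB hBc hc hBQ hZ
    have h1 := hmem B hB hBc hc hBQ
    rw [hZ] at h1
    by_contra h4
    have h9 : (Nat.card (A ⊓ ZZ Q : Subgroup G) * N + Nat.card (A ⊓ R : Subgroup G)) + 1 ≤
      Nat.card (A ⊓ ZZ Q : Subgroup G) * N + Nat.card (B ⊓ R : Subgroup G) := by omega
    have h10 := Nat.mul_le_mul_right N h9
    rw [add_mul _ 1 N, one_mul] at h10
    have h8 := hlt (A ⊓ D)
    omega
  · intro B hB hBc hc hBQ hZ hR
    have h1 := hmem B hB hBc hc hBQ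
    rw [hZ, hR] at h1
    omega

/-! ### T3 -/

section T3

variable {R D A : Subgroup G}

theorem best_of_pick (S : Sylow p G) (h : RD p (pCore p G) R D) (hA : Pick (S : Subgroup G) (pCore p G) R D A) :
    Best (S : Subgroup G) (pCore p G) R D A := by
  have hmem : A ∈ maxAbelianIn (S : Subgroup G) := ⟨hA.le, ab_iff.1 hA.comm, fun B hB hBc => hA.max B hB (ab_iff.2 hBc)⟩
  refine ⟨Lib.Cores.pCore_le_sylow S, h.le, h.leQ, h.DR, ?_, hmem, hA.not_le, ?_⟩
  · intro d hd q hq
    rw [← commutatorElement_inv]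
    exact inv_mem (h.DQ (commutator_mem_commutator hd hq))
  · intro B hB hBQ hAB
    have hBA : Nat.card B = Nat.card A := le_antisymm (hA.max B hB.1 (ab_iff.2 hB.2.1)) (hB.2.2 A hA.le hmem.2.1)
    have h1 := hA.lexZ B hB.1 (ab_iff.2 hB.2.1) hBA hBQ
    have h2 : Nat.card (A ⊓ ZZ (pCore p G) : Subgroup G) ≤ Nat.card (B ⊓ ZZ (pCore p G) : Subgroup G) :=
      Subgroup.card_le_of_le (le_inf hAB inf_le_right)
    have h3 := le_antisymm h1 h2
    exact ⟨hA.lexR B hB.1 (ab_iff.2 hB.2.1) hBA hBQ h3, hA.lexD B hB.1 (ab_iff.2 hB.2.1) hBA hBQ h3⟩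

theorem elemComm_le_of_normal {K : Subgroup G} (hK : K.Normal) {y : G} (hy : y ∈ K) (A : Subgroup G) :
    elemComm y A ≤ K := by
  rw [elemComm_le_iff]
  intro a _
  have : ⁅y, a⁆ = y * (a * y⁻¹ * a⁻¹) := by rw [commutatorElement_def]; group
  rw [this]
  exact mul_mem hy (hK.conj_mem _ (inv_mem hy) a)

/-- `[Z(Q), A, A] = 1` -/
theorem t3_quad (S : Sylow p G) (h : RD p (pCore p G) R D)
    (hA : Pick (S : Subgroup G) (pCore p G) R D A) :
    ∀ z ∈ ZZ (pCore p G), ∀ a ∈ A, ∀ b ∈ A, ⁅a, ⁅b, z⁆⁆ = 1 := by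
  have hb := best_of_pick S h hA
  have hQn := Lib.Cores.pCore_normal (G := G) p
  have hSn : Group.IsNilpotent (S : Subgroup G) := S.isPGroup'.isNilpotent
  set Q := pCore p G with hQ
  have hZn : (ZZ Q).Normal := by
    rw [ZZ]; infer_instance
  have hZD : ZZ Q ≤ D := h.ZR.trans h.le
  have hAab := hb.Aab
  have key : ∀ z ∈ ZZ Q, ∀ b ∈ A, ⁅b, z⁆ ∈ A := by
    by_contra hcon
    push Not at hcon
    obtain ⟨z₁, hz₁, b₁, hb₁, hn₁⟩ := hcon
    obtain ⟨z, hz, hnz, hzl⟩ := exists_last (T := ZZ Q) hSn ((inf_le_left : ZZ Q ≤ Q).trans hb.QS) hb.AS (by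
        intro c _ t ht
        rw [commutatorElement_def]
        exact mul_mem (hZn.conj_mem _ ht c) (inv_mem ht))
      (fun z => ∀ b ∈ A, ⁅b, z⁆ ∈ A) (by intro b _; simp) ⟨z₁, hz₁, fun hh => hn₁ (hh b₁ hb₁)⟩
    have hTZ : elemComm z A ≤ ZZ Q := elemComm_le_of_normal hZn hz A
    have hTab : ∀ s ∈ elemComm z A, ∀ t ∈ elemComm z A, s * t = t * s := fun s hs t ht =>
      mem_centralizer_iff.1 (hTZ ht).2 s (hTZ hs).1
    rcases hb.dich hz.1 (hTZ.trans hZD) hTab with h1 | h1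
    · apply hnz
      intro b hb'
      rw [← commutatorElement_inv]
      exact inv_mem (h1 (mem_elemComm z A hb'))
    · obtain ⟨hB, -⟩ := repl hb.mem (hb.QS hz.1) hTab
      set C := A ⊓ centralizer (elemComm z A : Set G) with hC
      have hBQ : elemComm z A ⊔ C ≤ Q := sup_le (hTZ.trans inf_le_left) h1
      -- `Z(Q) ≤ T C`
      have hZB : ZZ Q ≤ elemComm z A ⊔ C := by
        refine le_trans ?_ (inf_centralizer_le_of_mem_maxAbelianIn hB)
        refine le_inf ((inf_le_left : ZZ Q ≤ Q).trans hb.QS) ?_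
        intro x hx
        rw [mem_centralizer_iff]
        intro y hy
        exact mem_centralizer_iff.1 hx.2 y (hBQ hy)
      obtain ⟨t, ht, c, hc, htc⟩ : ∃ t ∈ elemComm z A, ∃ c ∈ C, t * c = z := by
        have h2 : z ∈ ((elemComm z A ⊔ C : Subgroup G) : Set G) := hZB hz
        rw [Subgroup.coe_mul_of_right_le_normalizer_left _ C
          ((inf_le_right : C ≤ _).trans (centralizer_le_normalizer _))] at h2
        exact h2
      apply hnz
      intro b hb'
      -- `[b, t c] = [b, t]`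
      have h3 : ⁅b, z⁆ = ⁅b, t⁆ := by
        have h4 : c * b = b * c := hAab c hc.1 b hb'
        rw [← htc, commutatorElement_def, commutatorElement_def]
        calc b * (t * c) * b⁻¹ * (t * c)⁻¹ = b * t * (c * b⁻¹) * c⁻¹ * t⁻¹ := by group
          _ = b * t * (b⁻¹ * c) * c⁻¹ * t⁻¹ := by
              have h5 : c * b⁻¹ = b⁻¹ * c := hAab c hc.1 _ (inv_mem hb')
              rw [h5]
          _ = _ := by group
      rw [h3]
      -- `[b, t] ∈ A` for `t ∈ T`
      have h4 : elemComm z A ≤ { carrier := {t | t ∈ elemComm z A ∧ ⁅b, t⁆ ∈ A}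
                                 mul_mem' := by
                                   rintro s t ⟨hs, hs'⟩ ⟨ht, ht'⟩
                                   refine ⟨mul_mem hs ht, ?_⟩
                                   rw [comm_mul hTab hb' hs ht]
                                   exact mul_mem hs' ht'
                                 one_mem' := ⟨one_mem _, by simp⟩
                                 inv_mem' := by
                                   rintro s ⟨hs, hs'⟩
                                   refine ⟨inv_mem hs, ?_⟩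
                                   rw [comm_inv hTab hb' hs]
                                   exact inv_mem hs' : Subgroup G } := by
        refine (elemComm_le_iff z A _).2 ?_
        intro a ha
        refine ⟨mem_elemComm z A ha, ?_⟩
        have h5 := hzl a ha b hb'
        have h6 := comm_inv hTab hb' (mem_elemComm z A ha)
        rw [commutatorElement_inv] at h6
        rw [h6] at h5
        exact inv_mem_iff.1 h5
      exact (h4 ht).2
  intro z hz a ha b hb'
  exact commutatorElement_eq_one_iff_mul_comm.2 (hAab a ha _ (key z hz b hb'))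

theorem triple_inv {y : G}
    (hT : ∀ s ∈ elemComm y A, ∀ t ∈ elemComm y A, s * t = t * s) {a b c : G} (ha : a ∈ A) (hb : b ∈ A) (hc : c ∈ A) :
    ⁅c, ⁅b, ⁅a, y⁆⁆⁆ = ⁅c, ⁅b, ⁅y, a⁆⁆⁆⁻¹ := by
  have h1 := mem_elemComm y A ha
  rw [← commutatorElement_inv y a, comm_inv hT hb h1, comm_inv hT hc (comm_mem hb h1)]

/-- `[X, A, A, A] ≤ [X, Q]` for normal `X ≤ R` -/
theorem t3_cubic (S : Sylow p G) (h : RD p (pCore p G) R D)
    (hA : Pick (S : Subgroup G) (pCore p G) R D A) {X : Subgroup G} (hX : X.Normal) (hXR : X ≤ R) :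
    ∀ x ∈ X, ∀ a ∈ A, ∀ b ∈ A, ∀ c ∈ A, ⁅c, ⁅b, ⁅a, x⁆⁆⁆ ∈ ⁅X, pCore p G⁆ := by
  intro x hx a ha b hb c hc
  have hbest := best_of_pick S h hA
  have hQn := Lib.Cores.pCore_normal (G := G) p
  have hSn : Group.IsNilpotent (S : Subgroup G) := S.isPGroup'.isNilpotent
  have hTR : elemComm x A ≤ R := elemComm_le_of_normal h.Rn (hXR hx) A
  have hT : ∀ s ∈ elemComm x A, ∀ t ∈ elemComm x A, s * t = t * s := fun s hs t ht => h.Rab s (hTR hs) t (hTR ht)
  rw [triple_inv hT ha hb hc]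
  refine inv_mem ?_
  have hKn : (⁅X, pCore p G⁆).Normal := inferInstance
  exact hbest.deg3 hSn (h.leQ (h.le (hXR hx))) (hTR.trans h.le) hT (K := ⁅X, pCore p G⁆)
    (fun a _ haQ => commutator_mem_commutator hx haQ) (fun a _ k hk => hKn.conj_mem k hk a) c hc b hb a ha

/-- `[y, A, A, A] ≤ R` if `y ∈ D` and `[y, A]` is abelian -/
theorem t3_form (S : Sylow p G) (h : RD p (pCore p G) R D)
    (hA : Pick (S : Subgroup G) (pCore p G) R D A) {y : G} (hy : y ∈ D)
    (hyA : ∀ a ∈ A, ∀ b ∈ A, ⁅a, y⁆ * ⁅b, y⁆ = ⁅b, y⁆ * ⁅a, y⁆) :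
    ∀ a ∈ A, ∀ b ∈ A, ∀ c ∈ A, ⁅c, ⁅b, ⁅a, y⁆⁆⁆ ∈ R := by
  intro a ha b hb c hc
  have hbest := best_of_pick S h hA
  have hSn : Group.IsNilpotent (S : Subgroup G) := S.isPGroup'.isNilpotent
  have hTD : elemComm y A ≤ D := elemComm_le_of_normal h.Dn hy A
  have hT : ∀ s ∈ elemComm y A, ∀ t ∈ elemComm y A, s * t = t * s := by
    have h1 : ∀ a ∈ A, elemComm y A ≤ centralizer ({⁅y, a⁆} : Set G) := by
      intro a ha
      rw [elemComm_le_iff]
      intro b hb
      rw [mem_centralizer_singleton_iff]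
      have h2 := hyA a ha b hb
      rw [← commutatorElement_inv y a, ← commutatorElement_inv y b] at h2
      have h3 := congrArg (·⁻¹) h2
      simp only [mul_inv_rev, inv_inv] at h3
      exact h3
    have h2 : elemComm y A ≤ centralizer (elemComm y A : Set G) := by
      rw [elemComm_le_iff]
      intro a ha
      rw [mem_centralizer_iff]
      intro t ht
      exact mem_centralizer_singleton_iff.1 (h1 a ha ht)
    intro s hs t ht
    exact mem_centralizer_iff.1 (h2 ht) s hs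
  rw [triple_inv hT ha hb hc]
  refine inv_mem ?_
  have hRn := h.Rn
  exact hbest.deg3 hSn (h.leQ hy) hTD hT (K := R)
    (fun a _ haQ => h.DQ (commutator_mem_commutator hy haQ)) (fun a _ k hk => hRn.conj_mem k hk a) c hc b hb a ha

end T3

end Cfsg.Agent.H587.S3068
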